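import Mathlib
import Cfsg.Agent.H21.SN.Tools
import Cfsg.Agent.H640.TD.Gal
import Cfsg.Agent.H459.Inv.NodeX
import Cfsg.Agent.H53.HC.RgdLevi

/-!
# S3831, exceptional rows of rank two: automorphisms of order three with `RN x` (helper353)

* `all_fixed` : the gallery lemma; `RN.cx`;
* `noS3_parabolic` : the minimal parabolic subgroup `P_i` is `NoS3` if `⟨X_i, X_{-i}⟩` is;
* `Nd R hgen i` : `|X_i| ≤ 2`, or `P_i` is not solvable and `NoS3`;
* `eq_one_of_B` : `RN x`, `x ^ 3 = 1`, `x` fixes `B` ⇒ `x = 1`;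
* `false_of_fix` : `RN x`, `x ^ 3 = 1`, `x ≠ 1`, both nodes not solvable, `x` normalises an `r`-subgroup: impossible.
-/

set_option autoImplicit false
set_option linter.unusedSectionVars false

namespace Cfsg.Agent.H353.SNX

open Cfsg Subgroup Cfsg.Agent.H459.Rad Cfsg.Agent.H459.Gallery Cfsg.Agent.H459.NonEll Cfsg.Agent.H459.Iface
open Cfsg.Agent.H459.RgdRad Cfsg.Agent.H21.SN
open Cfsg.Agent.Schreier.BNSch Cfsg.Agent.FixBN
open scoped Pointwise

section Abs

variable {K : Type*} [Group K] [Finite K]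

theorem rn_cx {x : MulAut K} (h : RN x) (g : K) : RN (cx x g) := by
  have h1 := RN.tr (MulAut.conj g⁻¹) h
  have h2 : Cfsg.Agent.H459.Rad.tr (MulAut.conj g⁻¹) x = cx x g := by
    ext k
    rw [tr_apply, cx_apply]
    simp
  rwa [h2] at h1

variable (P : BNPair K)

/-- the radical of a minimal parabolic subgroup which is not solvable -/
theorem rad_le_B (hBs : Group.IsSolvable P.B) {s : K} (hs : s ∈ P.S) (hsol : ¬ Group.IsSolvable (P.parabolic {s})) :
    radIn (P.parabolic {s}) ≤ P.B := by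
  obtain ⟨L, hL, hLe, hLs, -⟩ := radIn_sup P hBs (L := {s}) (Set.singleton_subset_iff.2 hs)
  have hL0 : L = ∅ := by
    rcases Set.subset_singleton_iff_eq.1 hL with h2 | h2
    · exact h2
    · rw [h2] at hLs
      exact absurd hLs hsol
  rw [hL0, parabolic_empty] at hLe
  rw [← hLe]
  exact le_sup_left

/-- `x` fixes `P_s`, not solvable and `NoS3`: `x` is trivial on `P_s / B` -/
theorem fix_adj {x : MulAut K} (h : RN x) (hBs : Group.IsSolvable P.B) {s : K} (hs : s ∈ P.S)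
    (hPs : Iv x (P.parabolic {s})) (hN : NoS3 (P.parabolic {s})) (hsol : ¬ Group.IsSolvable (P.parabolic {s})) :
    ∀ g ∈ P.parabolic {s}, g⁻¹ * x g ∈ P.B := fun g hg => rad_le_B P hBs hs hsol (h _ hPs hN g hg)

/-- `x` fixes `P_s`, not solvable and `NoS3`: `x` fixes `B` -/
theorem iv_B {x : MulAut K} (h : RN x) (hBs : Group.IsSolvable P.B) {s : K} (hs : s ∈ P.S)
    (hPs : Iv x (P.parabolic {s})) (hN : NoS3 (P.parabolic {s})) (hsol : ¬ Group.IsSolvable (P.parabolic {s})) :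
    Iv x P.B := by
  intro b hb
  have h1 := fix_adj P h hBs hs hPs hN hsol b (B_le_parabolic P _ hb)
  have e : x b = b * (b⁻¹ * x b) := by group
  rw [e]
  exact mul_mem hb h1

/-- **The gallery lemma.** -/
theorem all_fixed {x : MulAut K} (hadj : ∀ g : K, Iv (cx x g) P.B → ∀ s ∈ P.S, ∀ k ∈ P.parabolic {s},
      k⁻¹ * cx x g k ∈ P.B) (hB : Iv x P.B) (g : K) : g⁻¹ * x g ∈ P.B := by
  have key : ∀ g : K, g⁻¹ * x g ∈ P.B → ∀ s ∈ P.S, ∀ k ∈ P.parabolic {s}, (g * k)⁻¹ * x (g * k) ∈ P.B := by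
    intro g hg s hs k hk
    have h1 : Iv (cx x g) P.B := hB.cx hg
    have h2 := hadj g h1 s hs k hk
    rw [cx_apply'] at h2
    have h3 : (g * k)⁻¹ * x (g * k) = (k⁻¹ * ((g⁻¹ * x g) * x k * (g⁻¹ * x g)⁻¹)) * (g⁻¹ * x g) := by
      rw [map_mul]; group
    rw [h3]
    exact mul_mem h2 hg
  have hg : g ∈ closure ((P.B : Set K) ∪ P.S) := by
    rw [Subgroup.closure_union, Subgroup.closure_eq, sup_closure_eq_top]
    exact mem_top g
  refine Subgroup.closure_induction_right (p := fun g _ => g⁻¹ * x g ∈ P.B) ?_ ?_ ?_ hg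
  · simp
  · intro g _ y hy ih
    rcases hy with hy | hy
    · rw [map_mul]
      have : (g * y)⁻¹ * (x g * x y) = y⁻¹ * (g⁻¹ * x g) * x y := by group
      rw [this]
      exact mul_mem (mul_mem (inv_mem hy) ih) (hB y hy)
    · exact key g ih y hy y (mem_parabolic_self P y)
  · intro g _ y hy ih
    rcases hy with hy | hy
    · rw [map_mul]
      have : (g * y⁻¹)⁻¹ * (x g * x y⁻¹) = y * (g⁻¹ * x g) * x y⁻¹ := by group
      rw [this]
      exact mul_mem (mul_mem hy ih) (hB _ (inv_mem hy))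
    · exact key g ih y hy y⁻¹ (inv_mem (mem_parabolic_self P y))

/-- three layers: `V` solvable, `f.range`, `T` solvable -/
theorem noS3_of_layers {G : Type*} [Group G] {M L : Subgroup G} (hn : L ≤ normalizer (M : Set G))
    {T : Subgroup G} (hT : Group.IsSolvable T) (hL : L ≤ T ⊔ M) (hTL : T ≤ L) (hML : M ≤ L) (hM : NoS3 M) : NoS3 L := by
  have hMn : (M.subgroupOf L).Normal := (Subgroup.normal_subgroupOf_iff_le_normalizer hML).2 hn
  refine NoS3.of_normal (M.subgroupOf L) ?_ (hM.congr (subgroupOfEquivOfLe hML).symm)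
  refine Group.isSolvable_of_surjective (f := (QuotientGroup.mk' (M.subgroupOf L)).comp (Subgroup.inclusion hTL)) ?_
  intro q
  obtain ⟨⟨l, hl⟩, rfl⟩ := QuotientGroup.mk'_surjective _ q
  have h1 : (T ⊔ M : Subgroup G) = T ⊔ M := rfl
  have h2 : l ∈ (T : Set G) * (M : Set G) := by
    rw [← Subgroup.coe_mul_of_left_le_normalizer_right T M (hTL.trans hn)]
    exact hL hl
  obtain ⟨t, ht, m, hm, rfl⟩ := h2
  refine ⟨⟨t, ht⟩, ?_⟩
  refine (QuotientGroup.eq (s := M.subgroupOf L)).2 ?_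
  rw [mem_subgroupOf]
  change t⁻¹ * (t * m) ∈ M
  rw [inv_mul_cancel_left]
  exact hm

end Abs

open CoxeterSystem Cfsg.Agent.ChevalleyStructure.CoxeterGeom Cfsg.Agent.Tits.Roots
  Cfsg.Agent.Nodes.Reps Cfsg.Agent.Nodes.BNOf Cfsg.Agent.Nodes.LeviDec Cfsg.Agent.KFacts.RgdCharP
  Cfsg.Agent.KFacts.RgdVJ Cfsg.Agent.Nodes.StabComb Cfsg.Agent.Nodes.OppDec Cfsg.Agent.Nodes.Bruhat

section Par

variable {I W Y : Type*} [Fintype I] [DecidableEq I] [Group W] [Group Y] {M : CoxeterMatrix I}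
  {cs : CoxeterSystem M W} {A : I → I → ℤ} {h : IsCartan M A} {r : ℕ} {T : Subgroup Y} {n : I → Y}
  {X : (I → ℤ) → Subgroup Y}

theorem rootsJ_single (i : I) {x : I → ℤ} (hx : x ∈ RootsJ cs h {i}) : x = sr i ∨ x = -sr i := by
  obtain ⟨hr, h0⟩ := hx
  rcases hr.pos_or_neg with h2 | h2
  · exact Or.inl (hr.eq_sr h2 i fun k hk => h0 k hk)
  · right
    have h3 := hr.neg.eq_sr (neg_nonneg.2 h2) i fun k hk => by rw [Pi.neg_apply, h0 k hk, neg_zero]
    rw [← h3, neg_neg]

theorem MJ_single (i : I) : H53.HC.MJ cs h X {i} = X (sr i) ⊔ X (-sr i) := by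
  apply le_antisymm
  · refine RGD.Sup_le fun x hx => ?_
    rcases rootsJ_single i hx with rfl | rfl
    · exact le_sup_left
    · exact le_sup_right
  · exact sup_le (RGD.le_Sup (PosJ_subset _ (sr_mem_PosJ (Set.mem_singleton i))))
      (RGD.le_Sup (RootsJ.neg (PosJ_subset _ (sr_mem_PosJ (Set.mem_singleton i)))))

/-- **the minimal parabolic subgroups are `NoS3`** -/
theorem noS3_PJ (R : RGD cs h r T n X) [Finite W] [Finite Y] [Fact r.Prime] (hT : Group.IsSolvable T) (i : I)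
    (hi : NoS3 ↥(X (sr i) ⊔ X (-sr i))) : NoS3 ↥(PJ cs h T X {i}) := by
  rw [← MJ_single (cs := cs) (h := h)] at hi
  have h1 : NoS3 ↥(LJ cs h T X {i}) :=
    noS3_of_layers (H53.HC.LJ_le_normalizer_MJ R {i}) hT (by rw [H53.HC.LJ_eq])
      (by rw [H53.HC.LJ_eq]; exact le_sup_left) (H53.HC.MJ_le_LJ {i}) hi
  obtain ⟨π, hπ1, hπ2⟩ := H53.HC.exists_projL R {i}
  refine NoS3.of_ker π ?_ h1
  -- the kernel is contained in `V_i`
  have hV : Group.IsSolvable ↥(VJ cs h X {i}) := by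
    have : Group.IsNilpotent ↥(VJ cs h X {i}) := (isPGroup_VJ R {i}).isNilpotent
    infer_instance
  have hk : ∀ g ∈ π.ker, ((g : ↥(PJ cs h T X {i})) : Y) ∈ VJ cs h X {i} := by
    rintro ⟨g, hg⟩ hgk
    obtain ⟨l, hl, v, hv, rfl⟩ := (mem_PJ R).1 hg
    have h2 : (⟨l * v, hg⟩ : ↥(PJ cs h T X {i})) = ⟨l, LJ_le_PJ hl⟩ * ⟨v, VJ_le_PJ hv⟩ := rfl
    rw [MonoidHom.mem_ker, h2, map_mul, hπ1 l hl, hπ2 v hv, mul_one] at hgk
    have h3 : l = 1 := congrArg Subtype.val hgk
    change l * v ∈ VJ cs h X {i}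
    rw [h3, one_mul]
    exact hv
  refine Group.isSolvable_of_isSolvable_injective
    (f := (((PJ cs h T X {i}).subtype.comp π.ker.subtype).codRestrict (VJ cs h X {i}) fun z => hk z z.2)) ?_
  intro a b hab
  exact Subtype.ext (Subtype.ext (congrArg (fun z : VJ cs h X {i} => (z : Y)) hab))

end Par

section Two

variable {G : Type*} [Group G] {M : CoxeterMatrix (Fin 2)} {W : Type*} [Group W]
  {cs : CoxeterSystem M W} {C : Fin 2 → Fin 2 → ℤ} {h : IsCartan M C} {r : ℕ} {T : Subgroup G} {n : Fin 2 → G}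
  {X : (Fin 2 → ℤ) → Subgroup G}

variable [Finite W] [Finite G] (R : RGD cs h r T n X) (hgen : RGD.B cs h T X ⊔ NN cs R.nsys = ⊤)

/-- `P_i` is not solvable and has no sections `L₃(3)`, `U₃(3)`, `PSp₄(3)` -/
def Nd (i : Fin 2) : Prop :=
  ¬ Group.IsSolvable ((R.bnPair hgen).parabolic {n i}) ∧ NoS3 ((R.bnPair hgen).parabolic {n i})

/-- **an automorphism of order three with `RN` fixing a Borel subgroup is trivial** -/
theorem eq_one_of_B [IsSimpleGroup G] (hBs : Group.IsSolvable (R.bnPair hgen).B)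
    (hnd : ∀ i, Nat.card (X (sr i)) ≤ 2 ∨ Nd R hgen i) {x : MulAut G} (hR : RN x) (hx : x ^ 3 = 1)
    (hB : Iv x (R.bnPair hgen).B) : x = 1 := by
  set P := R.bnPair hgen with hP
  have hne : P.S.Nonempty := ⟨n 0, 0, rfl⟩
  have hcore := Cfsg.Agent.Tits.OfBN.normalCore_eq_bot P hne
  refine eq_one P hcore fun g => ?_
  refine all_fixed P ?_ hB g
  rintro g hg s hs
  obtain ⟨i, rfl⟩ : ∃ i, n i = s := hs
  have hy3 := H640.TD.cx_pow hx g
  have hPi := H640.TD.rig_three R hgen hy3 hg i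
  rcases hnd i with h2 | ⟨h1, h2⟩
  · exact H640.TD.fixed_of_index_le ((index_le R hgen i).trans (by omega)) hy3 hg hPi (B_le_parabolic P _)
  · exact fix_adj P (rn_cx hR g) hBs (mem_S R hgen) hPi h2 h1

/-- **both nodes not solvable** -/
theorem false_of_fix [IsSimpleGroup G] [Fact r.Prime] (hBs : Group.IsSolvable (R.bnPair hgen).B)
    (hBT : BT cs h r T X) (hnp : ¬ IsPGroup r G)
    (hnd : ∀ i, Nd R hgen i) {x : MulAut G} (hR : RN x) (hx : x ^ 3 = 1) (hx1 : x ≠ 1) (hfx : FixR r x) : False := by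
  have hns : ∀ V : Subgroup G, V ≠ ⊥ → V ≠ ⊤ → normalizer (V : Set G) ≠ ⊤ := by
    intro V h1 h2 h3
    rcases (Subgroup.normalizer_eq_top_iff.1 h3).eq_bot_or_eq_top with h4 | h4
    · exact h1 h4
    · exact h2 h4
  obtain ⟨M₀, g₀, h1, h2, h3⟩ := exists_par R hgen hBT hns hnp hfx
  have hy3 := H640.TD.cx_pow hx g₀
  have hy1 : cx x g₀ ≠ 1 := by
    intro h
    apply hx1
    have h4 : cx (cx x g₀) g₀⁻¹ = x := by rw [cx_cx, mul_inv_cancel, cx_one]
    rw [← h4, h]
    unfold cx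
    simp
  have hyR := rn_cx hR g₀
  obtain ⟨y, hy⟩ : ∃ y, y = cx x g₀ := ⟨_, rfl⟩
  rw [← hy] at h3 hy3 hy1 hyR
  have keyB : Iv y (R.bnPair hgen).B → False := fun hB => hy1
    (eq_one_of_B R hgen hBs (fun i => Or.inr (hnd i)) hyR hy3 hB)
  have keyP : ∀ i, Iv y ((R.bnPair hgen).parabolic {n i}) → False := fun i hi =>
    keyB (iv_B (R.bnPair hgen) hyR hBs (mem_S R hgen) hi (hnd i).2 (hnd i).1)
  obtain ⟨J, hJ, rfl⟩ := Cfsg.Agent.S0311.result (R.bnPair hgen) M₀ h1
  have hJ' : ∀ t ∈ J, t = n 0 ∨ t = n 1 := by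
    intro t ht
    obtain ⟨i, rfl⟩ : ∃ i, n i = t := hJ ht
    rcases H640.TD.two_cases i with rfl | rfl
    · exact Or.inl rfl
    · exact Or.inr rfl
  by_cases h0 : n 0 ∈ J
  · by_cases h5 : n 1 ∈ J
    · apply h2
      have h6 : J = (R.bnPair hgen).S := by
        apply Set.Subset.antisymm hJ
        rintro _ ⟨i, rfl⟩
        rcases H640.TD.two_cases i with rfl | rfl
        · exact h0
        · exact h5
      rw [h6]
      exact sup_closure_eq_top (R.bnPair hgen)
    · have h6 : J = {n 0} := by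
        apply Set.Subset.antisymm
        · intro t ht
          rcases hJ' t ht with h7 | h7
          · exact h7
          · exact absurd (h7 ▸ ht) h5
        · exact Set.singleton_subset_iff.2 h0
      rw [h6] at h3
      exact keyP 0 h3
  · by_cases h5 : n 1 ∈ J
    · have h6 : J = {n 1} := by
        apply Set.Subset.antisymm
        · intro t ht
          rcases hJ' t ht with h7 | h7
          · exact absurd (h7 ▸ ht) h0
          · exact h7
        · exact Set.singleton_subset_iff.2 h5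
      rw [h6] at h3
      exact keyP 1 h3
    · have h6 : J = ∅ := by
        rw [Set.eq_empty_iff_forall_notMem]
        intro t ht
        rcases hJ' t ht with h7 | h7
        · exact h0 (h7 ▸ ht)
        · exact h5 (h7 ▸ ht)
      rw [h6, parabolic_empty] at h3
      exact keyB h3

end Two

end Cfsg.Agent.H353.SNX
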