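import Mathlib
import Cfsg.Agent.H353.SNX.Gal
import Cfsg.Agent.H95.SN.Crit
import Cfsg.Agent.H115.SN.NoSL2
import Cfsg.Agent.H65.Disp.Twist
import Cfsg.Agent.H640.TD.Row

/-!
# S3831, `G₂(q)` (`q ≥ 4`) and `³D₄(q)` (`q ≥ 4`), order three (helper353)

* `noS3_sl2`; `commutator_sl2` : `SL₂(E)` is perfect, `|E| ≥ 4`;
* `IsNode X i` : `⟨X_i, X_{-i}⟩` is an image of `SL₂(E)`, `|E| ≥ 4`; `nd_of_isNode`;
* `g3_of_nodes` : the row from a root group datum of rank two all of whose nodes are `IsNode`;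
* `g3_g2`, `g3_twD4` : the rows.
-/

set_option autoImplicit false
set_option linter.unusedSectionVars false
set_option linter.unusedFintypeInType false

namespace Cfsg.Agent.H353.SNX

open Cfsg Subgroup Cfsg.Agent.H459.Rad Cfsg.Agent.H459.Gallery Cfsg.Agent.H459.NonEll Cfsg.Agent.H459.Iface
open Cfsg.Agent.H459.RgdRad Cfsg.Agent.H21.SN
open Cfsg.Agent.Schreier.BNSch Cfsg.Agent.FixBN
open scoped Pointwise MatrixGroups

section SL

theorem noS3_sl2 (E : Type) [Field E] [Finite E] : NoS3 (Matrix.SpecialLinearGroup (Fin 2) E) :=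
  H95.SN.noS3_of_sylow3 (H115.SN.exists_sylow_comm E)

theorem commutator_sl2 {E : Type*} [Field E] [Fintype E] (h4 : 4 ≤ Fintype.card E) :
    commutator (Matrix.SpecialLinearGroup (Fin 2) E) = ⊤ := by
  classical
  obtain ⟨a, ha0, ha1⟩ : ∃ a : E, a ≠ 0 ∧ a ^ 2 ≠ 1 := by
    by_contra hcon
    push Not at hcon
    have h1 : (Finset.univ : Finset E) ⊆ {0, 1, -1} := by
      intro a _
      rcases eq_or_ne a 0 with h | h
      · simp [h]
      · have h2 : (a - 1) * (a + 1) = 0 := by linear_combination hcon a h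
        rcases mul_eq_zero.1 h2 with h3 | h3
        · simp [sub_eq_zero.1 h3]
        · simp [eq_neg_of_add_eq_zero_left h3]
    have h2 := Finset.card_le_card h1
    have h3 := Finset.card_le_three (a := (0 : E)) (b := 1) (c := -1)
    rw [Finset.card_univ] at h2
    omega
  exact Matrix.SL2.commutator_eq_top ha0 ha1

end SL

open CoxeterSystem Cfsg.Agent.ChevalleyStructure.CoxeterGeom Cfsg.Agent.Tits.Roots
  Cfsg.Agent.Nodes.Reps Cfsg.Agent.Nodes.BNOf Cfsg.Agent.Nodes.LeviDec Cfsg.Agent.KFacts.RgdCharP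
  Cfsg.Agent.KFacts.RgdVJ Cfsg.Agent.Nodes.StabComb Cfsg.Agent.Nodes.OppDec Cfsg.Agent.Nodes.Bruhat
  Cfsg.Agent.KFacts.RgdFilt

/-- `⟨X_i, X_{-i}⟩` is an image of `SL₂(E)`, `|E| ≥ 4` -/
def IsNode {I G : Type*} [DecidableEq I] [Group G] (X : (I → ℤ) → Subgroup G) (i : I) : Prop :=
  ∃ (E : Type) (_ : Field E) (_ : Fintype E) (φ : Matrix.SpecialLinearGroup (Fin 2) E →* G),
    4 ≤ Fintype.card E ∧ φ.range = X (sr i) ⊔ X (-sr i)

section Two

variable {G : Type*} [Group G] {M : CoxeterMatrix (Fin 2)} {W : Type*} [Group W]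
  {cs : CoxeterSystem M W} {C : Fin 2 → Fin 2 → ℤ} {h : IsCartan M C} {r : ℕ} {T : Subgroup G} {n : Fin 2 → G}
  {X : (Fin 2 → ℤ) → Subgroup G}

variable [Finite W] [Finite G] [Fact r.Prime] (R : RGD cs h r T n X) (hgen : RGD.B cs h T X ⊔ NN cs R.nsys = ⊤)

theorem nd_of_isNode (hG : Nodes.RGDLib.G1 cs h X = ⊤) (hT : Group.IsSolvable T) {i : Fin 2} (hi : IsNode X i) :
    Nd R hgen i := by
  obtain ⟨E, _, _, φ, h4, hφ⟩ := hi
  have hN : NoS3 ↥(X (sr i) ⊔ X (-sr i)) := by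
    rw [← hφ]
    exact (noS3_sl2 E).of_surjective φ.rangeRestrict φ.rangeRestrict_surjective
  unfold Nd
  rw [H459.Inv.NodeX.parabolic_single R hgen hG i]
  refine ⟨fun hs => ?_, noS3_PJ R hT i hN⟩
  have hle : φ.range ≤ PJ cs h T X {i} := by
    rw [hφ, ← MJ_single (cs := cs) (h := h)]
    exact (H53.HC.MJ_le_LJ {i}).trans LJ_le_PJ
  have hrs : Group.IsSolvable ↥φ.range :=
    Cfsg.Agent.SignalizersComponents.ComponentExists.isSolvable_of_le hle hs
  have hperf : ⁅φ.range, φ.range⁆ = φ.range := by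
    rw [MonoidHom.range_eq_map, ← Subgroup.map_commutator]
    congr 1
    exact commutator_sl2 h4
  have h8 : Group.IsPerfect ↥φ.range := Subgroup.isPerfect_iff.mpr hperf
  have hbot : φ.range = ⊥ := by
    by_contra hne
    have : Nontrivial ↥φ.range := (Subgroup.nontrivial_iff_ne_bot _).2 hne
    exact Group.IsPerfect.not_isSolvable _ hrs
  apply R.notp i
  rw [← hφ, hbot]
  exact IsPGroup.of_bot

theorem solvable_B (hT : Group.IsSolvable T) : Group.IsSolvable (R.bnPair hgen).B := by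
  have h1 : Group.IsSolvable ↥(RGD.Sup X (RGD.Pos cs h)) := by
    have : Group.IsNilpotent ↥(RGD.Sup X (RGD.Pos cs h)) := R.isPGroup_Upos.isNilpotent
    infer_instance
  have h2 : RGD.B cs h T X ≤ normalizer ((RGD.Sup X (RGD.Pos cs h) : Subgroup G) : Set G) :=
    sup_le R.T_le_normalizer_U le_normalizer
  have h3 := Cfsg.Agent.H459.Gallery.isSolvable_sup (A := RGD.Sup X (RGD.Pos cs h)) (B := T) (M := RGD.B cs h T X)
    le_sup_right le_sup_left (fun g hg a ha => (Subgroup.mem_normalizer_iff.1 (h2 hg) a).1 ha) h1 hT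
  rwa [sup_comm] at h3

include R in
theorem not_isPGroup : ¬ IsPGroup r G := fun hp => R.notp 0 (hp.to_subgroup _)

end Two

/-- **the row from the nodes** -/
theorem g3_of_nodes {G : Type} [Group G] [Finite G] [IsSimpleGroup G] {r : ℕ} [Fact r.Prime]
    {M : CoxeterMatrix (Fin 2)} {W : Type*} [Group W] {cs : CoxeterSystem M W} [Finite W] {A : Fin 2 → Fin 2 → ℤ}
    {h : IsCartan M A} {T : Subgroup G} {n : Fin 2 → G}
    {X : (Fin 2 → ℤ) → Subgroup G} (R : RGD cs h r T n X) (hG : Nodes.RGDLib.G1 cs h X = ⊤)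
    (hBT : BT cs h r T X) (hT : Group.IsSolvable T) (hn : ∀ i, IsNode X i)
    (hfix : ∀ x : MulAut G, x ^ 3 = 1 → ∃ V : Subgroup G, V ≠ ⊥ ∧ IsPGroup r V ∧ ∀ v ∈ V, x v ∈ V) : G3 G := by
  intro x hx _ hR
  have hx3 : x ^ 3 = 1 := by rw [← hx]; exact pow_orderOf_eq_one x
  have hx1 : x ≠ 1 := by rintro rfl; rw [orderOf_one] at hx; omega
  have hgen := Cfsg.Agent.Nodes.RGDLib.rgd_gen_of_G1 R hG
  exact false_of_fix R hgen (solvable_B R hgen hT) hBT (not_isPGroup R) (fun i => nd_of_isNode R hgen hG hT (hn i))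
    hR hx3 hx1 (hfix x hx3)

/-! ### `G₂(q)` -/

section Chev

open Cfsg.Lie Cfsg.Agent.ChevalleyStructure Cfsg.Agent.ChevalleyStructure.Elts Cfsg.Agent.ChevalleyStructure.NPerm
  Cfsg.Agent.Nodes.RGDChev
open Cfsg.Agent.ChevalleyStructure.SL2Hom (up lo mem_closure_SL2)
open Cfsg.Agent.Nodes.RGDFoldSL (psi psi_up psi_lo psi_mem)

theorem diag_comm {D : ChevalleyDatum} (hD : InList D) {K : Type*} [Field K] {x y : GL D.Idx K}
    (hx : x ∈ D.diagonalSubgroup K) (hy : y ∈ D.diagonalSubgroup K) : x * y = y * x := by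
  obtain ⟨χ, hχ⟩ := HMatDiagAll.mem_torus.1 (HMatDiagAll.diagonalSubgroup_le_torus hD hx)
  obtain ⟨ψ, hψ⟩ := HMatDiagAll.mem_torus.1 (HMatDiagAll.diagonalSubgroup_le_torus hD hy)
  apply Units.ext
  rw [Units.val_mul, Units.val_mul, hχ, hψ, Matrix.diagonal_mul_diagonal, Matrix.diagonal_mul_diagonal]
  congr 1
  funext i
  exact mul_comm _ _

/-- a homomorphism from `SL₂` with the right images of the root elements -/
theorem range_eq {E : Type*} [Field E] {Γ : Type*} [Group Γ] (φ : Matrix.SpecialLinearGroup (Fin 2) E →* Γ)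
    {A B : Subgroup Γ} (hA : ∀ g, g ∈ A ↔ ∃ a, φ (up a) = g) (hB : ∀ g, g ∈ B ↔ ∃ a, φ (lo a) = g) :
    φ.range = A ⊔ B := by
  apply le_antisymm
  · rintro _ ⟨g, rfl⟩
    have h1 := mem_closure_SL2 g
    have h2 : Subgroup.closure (Set.range (up (F := E)) ∪ Set.range (lo (F := E))) ≤ (A ⊔ B).comap φ := by
      rw [Subgroup.closure_le]
      rintro _ (⟨a, rfl⟩ | ⟨a, rfl⟩)
      · exact mem_sup_left ((hA _).2 ⟨a, rfl⟩)
      · exact mem_sup_right ((hB _).2 ⟨a, rfl⟩)
    exact h2 h1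
  · refine sup_le ?_ ?_
    · intro g hg
      obtain ⟨a, ha⟩ := (hA g).1 hg
      exact ⟨_, ha⟩
    · intro g hg
      obtain ⟨a, ha⟩ := (hB g).1 hg
      exact ⟨_, ha⟩

variable {D : ChevalleyDatum} {l : ℕ} {M : CoxeterMatrix (Fin l)} (hp : IsType D l M) {K : Type} [Field K]

/-- the homomorphism of the node `i` -/
noncomputable def nh (i : Fin l) : Matrix.SpecialLinearGroup (Fin 2) K →* ↥(D.group K) :=
  (psi hp.inList K (D.simple i)).codRestrict (D.group K) fun g => by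
    have h1 : D.rootSubgroup K (D.simple i) ⊔ D.rootSubgroup K (D.neg (D.simple i)) ≤ D.group K := by
      rw [← XV_sr hp, ← XV_neg_sr hp]
      exact sup_le (XV_le_group hp _) (XV_le_group hp _)
    exact h1 (psi_mem hp.inList (simple_lt hp.inList (lt_rank hp i)) g)

theorem coe_nh (i : Fin l) (s : Matrix.SpecialLinearGroup (Fin 2) K) :
    ((nh hp i s : ↥(D.group K)) : GL D.Idx K) = psi hp.inList K (D.simple i) s := rfl

include hp in
theorem isNode_chev [Fintype K] (h4 : 4 ≤ Fintype.card K) (i : Fin l) :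
    IsNode (fun x => (XV D l K x).subgroupOf (D.group K)) i := by
  have hs := simple_lt hp.inList (lt_rank hp i)
  refine ⟨K, inferInstance, inferInstance, nh hp i, h4, range_eq _ ?_ ?_⟩
  · intro g
    rw [Subgroup.mem_subgroupOf, XV_sr hp, mem_rootSubgroup_iff hp.inList]
    refine exists_congr fun a => ?_
    rw [← psi_up hp.inList hs, ← coe_nh hp]
    exact ⟨fun h => Subtype.ext h.symm, fun h => congrArg Subtype.val h.symm⟩
  · intro g
    rw [Subgroup.mem_subgroupOf, XV_neg_sr hp, mem_rootSubgroup_iff hp.inList]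
    refine exists_congr fun a => ?_
    rw [← psi_lo hp.inList hs, ← coe_nh hp]
    exact ⟨fun h => Subtype.ext h.symm, fun h => congrArg Subtype.val h.symm⟩

theorem isTypeG2 : IsType chevG2 2 CoxeterMatrix.G₂ := by simp [IsType, typeList]

/-- **`G₂(q)`, `q ≥ 4`** -/
theorem g3_g2 {F : Type} [Field F] [Fintype F] (hF : 4 ≤ Fintype.card F) [IsSimpleGroup ↥(chevG2.group F)] :
    G3 ↥(chevG2.group F) := by
  obtain ⟨p, hp⟩ := CharP.exists F
  have : Fact p.Prime := ⟨CharP.char_is_prime F p⟩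
  have hW := finite_W isTypeG2 CoxeterMatrix.G₂.toCoxeterSystem
  have : Finite ↥(chevG2.group F) := inferInstance
  have R := rgd (K := F) isTypeG2 CoxeterMatrix.G₂.toCoxeterSystem p
  have hG := G1_eq_top (K := F) isTypeG2 CoxeterMatrix.G₂.toCoxeterSystem
  refine g3_of_nodes R hG (fun K' hK' h1 => borel_tits_of_filt
      (Cfsg.Agent.KFacts.RgdFiltChev.filt isTypeG2 CoxeterMatrix.G₂.toCoxeterSystem p) hG hK' h1) ?_
    (isNode_chev isTypeG2 hF) (H65.Disp.Chev.exists_inv_chev isTypeG2 F p)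
  exact Group.isSolvable_of_comm fun a b => Subtype.ext (Subtype.ext
    (diag_comm isTypeG2.inList (Subgroup.mem_subgroupOf.1 a.2) (Subgroup.mem_subgroupOf.1 b.2)))

end Chev

end Cfsg.Agent.H353.SNX
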