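import Mathlib
import Cfsg.Agent.H353.SNX.Row
import Cfsg.Agent.ClosedExc.Rows

/-!
# S3831, `³D₄(q)`, `q ≥ 4`, order three (helper353)
-/

set_option autoImplicit false
set_option linter.unusedSectionVars false
set_option linter.unusedFintypeInType false

namespace Cfsg.Agent.H353.SNX

open CoxeterSystem Cfsg.Agent.ChevalleyStructure.CoxeterGeom Cfsg.Agent.Tits.Roots Cfsg.Agent.Tits.Core
  Cfsg.Agent.Tits.Exchange Cfsg.Agent.Nodes.Reps Cfsg.Agent.Nodes.BNOf Cfsg.Agent.Nodes.StabComb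
  Cfsg.Agent.Nodes.Bruhat Cfsg.Agent.Nodes.OppDec Cfsg.Agent.Nodes.RGDTwGen Cfsg.Agent.Nodes.RGDChev
  Cfsg.Agent.Nodes.RGDFold Cfsg.Agent.Nodes.RGDFoldSL
open Cfsg.Agent.KFacts.RgdOpp Cfsg.Agent.KFacts.RgdAut Cfsg.Agent.KFacts.RgdDiag Cfsg.Agent.KFacts.RgdRigid
  Cfsg.Agent.KFacts.RgdField Cfsg.Agent.KFacts.RgdTau Cfsg.Agent.KFacts.RgdNodes
open Cfsg.Lie Cfsg.Agent.ChevalleyStructure Cfsg.Agent.ChevalleyStructure.Elts Cfsg.Agent.ChevStructure.FieldMap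
open Cfsg.Agent.ChevalleyStructure.SL2Hom (up lo)
open Cfsg.Agent.KFacts.TwDFour.Out
open Cfsg.Agent.Nodes.RGDTwD4 Cfsg.Agent.Nodes.RGDTwNode.D4
open Cfsg.Agent.CpAut.RgdFix Cfsg.Agent.CpAut.RgdConj Cfsg.Agent.CpAut.RgdSub
  Cfsg.Agent.CpAut.RgdTwStd Cfsg.Agent.CpAut.RgdTwD4
open Cfsg.Agent.Schreier.BNSch
open Subgroup Cfsg Cfsg.Agent.H459.Rad Cfsg.Agent.H459.Gallery Cfsg.Agent.H459.NonEll Cfsg.Agent.H459.Iface
open Cfsg.Agent.H459.RgdRad Cfsg.Agent.H21.SN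

section

variable {F : Type} [Field F] [Fintype F] {q : ℕ} {φ : F →+* F} (hφ : ∀ x, φ x = x ^ q)
  (hK : Fintype.card F = q ^ 3)

include hφ hK in
theorem torus_comm {t u : ↥(twistedD4 F q)} (ht : t ∈ T F q) (hu : u ∈ T F q) : t * u = u * t := by
  apply Subtype.ext
  obtain ⟨c, hc⟩ := Cfsg.Agent.ChevalleyStructure.D4RGD.diagonal_le_torus F ht.1
  obtain ⟨d, hd⟩ := Cfsg.Agent.ChevalleyStructure.D4RGD.diagonal_le_torus F hu.1
  show (t : GL chevD4.Idx F) * (u : GL chevD4.Idx F) = (u : GL chevD4.Idx F) * (t : GL chevD4.Idx F)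
  rw [show (t : GL chevD4.Idx F) = D4NConj.torG c from hc, show (u : GL chevD4.Idx F) = D4NConj.torG d from hd,
    D4NConj.torG_mul, D4NConj.torG_mul, mul_comm]

include hφ hK in
/-- the nodes -/
theorem isNode_d4 (p : ℕ) [Fact p.Prime] [CharP F p] (i : Fin 2) (h4 : 4 ≤ Nat.card (X φ q (sr i))) :
    IsNode (X φ q) i := by
  classical
  have hW : Finite CoxeterMatrix.G₂.Group := finite_W (hp := Nodes.RGDTwD4.hp) CoxeterMatrix.G₂.toCoxeterSystem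
    Nodes.RGDTwD4.isCartan Nodes.RGDTwD4.foldData
  have R := Cfsg.Agent.Nodes.RGDTwD4.rgd CoxeterMatrix.G₂.toCoxeterSystem hK hφ p
  rw [Cfsg.Agent.KFacts.TwESix.OutTwo.card_of_coord (coordD hφ hK i)] at h4
  have : Fintype (KD φ i) := Fintype.ofFinite _
  refine ⟨KD φ i, inferInstance, inferInstance, PhiD hφ hK i, by rwa [← Nat.card_eq_fintype_card], range_eq _ ?_ ?_⟩
  · intro g
    rw [mem_X hφ hK i g]
    exact exists_congr fun a => eq_comm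
  · intro g
    rw [mem_neg R (mem_X hφ hK) (PhiD_wS hφ hK) i g]
    exact exists_congr fun a => eq_comm

end

/-- **`³D₄(q)`, `q ≥ 4`** -/
theorem g3_twD4_big {E : Type} [Field E] [Fintype E] {q : ℕ} (hq : IsPrimePow q) (hE : Fintype.card E = q ^ 3)
    (h4 : 4 ≤ q) [IsSimpleGroup ↥(twistedD4 E q)] : G3 ↥(twistedD4 E q) := by
  obtain ⟨p, hp⟩ := CharP.exists E
  have : Fact p.Prime := ⟨CharP.char_is_prime E p⟩
  obtain ⟨φ, hφ⟩ := D4Fixed.exists_frob hq hE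
  have hW : Finite CoxeterMatrix.G₂.Group := finite_W (hp := Nodes.RGDTwD4.hp) CoxeterMatrix.G₂.toCoxeterSystem
    Nodes.RGDTwD4.isCartan Nodes.RGDTwD4.foldData
  have : Finite ↥(twistedD4 E q) := inferInstance
  have R := Cfsg.Agent.Nodes.RGDTwD4.rgd CoxeterMatrix.G₂.toCoxeterSystem hE hφ p
  have hG := Cfsg.Agent.Nodes.RGDTwD4.G1_eq_top CoxeterMatrix.G₂.toCoxeterSystem hE hφ
  have hle := D4Fixed.twisted_le_fix hE hφ
  refine g3_of_nodes R hG (fun K' hK' h1 => Cfsg.Agent.KFacts.RgdFilt.borel_tits_of_filt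
    (Cfsg.Agent.KFacts.RgdFiltTwAll.filt_fold CoxeterMatrix.G₂.toCoxeterSystem isCartan foldData
      (foldGrp hφ hle) p) hG hK' h1)
    (Group.isSolvable_of_comm fun a b => Subtype.ext (torus_comm hφ hE a.2 b.2)) (fun i => ?_)
    (H65.Disp.Twist.exists_inv_twD4 hq hE p)
  refine isNode_d4 hφ hE p i ?_
  fin_cases i
  · exact h4.trans (ClosedExc.TwD4.card_X0 hφ hle hq.two_le hE).ge
  · refine le_trans ?_ (ClosedExc.TwD4.card_X1 hφ hle).ge
    rw [hE]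
    nlinarith [h4, Nat.pow_le_pow_left h4 3]

end Cfsg.Agent.H353.SNX
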