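import Mathlib
import Cfsg.Agent.H21.SN.Tools
import Cfsg.Agent.H95.SN.Crit
import Cfsg.Agent.H622.Levi.TypeA
import Cfsg.Agent.H640.TD.Elt

/-!
# Six involutions with the relations of the root elements of `SL₃(2)` (helper353, S3831)

* `noS3_of_six` : they generate a group without sections `L₃(3)`, `U₃(3)`, `PSp₄(3)`;
* `commC_all` : the commuting pairs of the six long root elements of `³D₄(q)`.
-/

set_option autoImplicit false
set_option linter.unusedSectionVars false

namespace Cfsg.Agent.H353.SNX

open Cfsg Subgroup Cfsg.Agent.H21.SN Matrix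
open scoped commutatorElement

theorem noS3_gl : NoS3 (GL (Fin 3) (ZMod 2)) := by
  have h : Nat.card (GL (Fin 3) (ZMod 2)) = 168 := by
    have h1 := Matrix.card_GL_field (𝔽 := ZMod 2) 3
    rw [h1]
    simp [Fin.prod_univ_succ]
  exact H95.SN.noS3_of_card (by rw [h]; norm_num) (by rw [h]; norm_num) (by rw [h]; norm_num)

theorem noS3_sl : NoS3 (SpecialLinearGroup (Fin 3) (ZMod 2)) :=
  noS3_gl.of_injective SpecialLinearGroup.toGL SpecialLinearGroup.toGL_injective

/-- the elements with coefficients -/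
def el {Y : Type*} [Group Y] (e : Fin 3 → Fin 3 → Y) (i j : Fin 3) (t : ZMod 2) : Y := if t = 0 then 1 else e i j

theorem noS3_of_six {Y : Type*} [Group Y] {a a' b b' s s' : Y} (ha : a * a = 1) (ha' : a' * a' = 1) (hb : b * b = 1)
    (hb' : b' * b' = 1) (hs : s * s = 1) (hs' : s' * s' = 1) (h1 : ⁅a, b⁆ = s) (h2 : ⁅a', s⁆ = b) (h3 : ⁅b', s⁆ = a)
    (h4 : ⁅a, s'⁆ = b') (h5 : ⁅b, s'⁆ = a') (h6 : ⁅a', b'⁆ = s') (c1 : a * s = s * a) (c2 : a * b' = b' * a)
    (c3 : a' * b = b * a') (c4 : a' * s' = s' * a') (c5 : b * s = s * b) (c6 : b' * s' = s' * b') :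
    NoS3 (closure ({a, a', b, b', s, s'} : Set Y)) := by
  have hsw : ∀ {x y z : Y}, z * z = 1 → ⁅x, y⁆ = z → ⁅y, x⁆ = z := by
    intro x y z hz h
    rw [← commutatorElement_inv, h]
    exact inv_eq_of_mul_eq_one_left hz
  set e : Fin 3 → Fin 3 → Y := ![![1, a, s], ![a', 1, b], ![s', b', 1]] with he
  have e01 : e 0 1 = a := rfl
  have e02 : e 0 2 = s := rfl
  have e10 : e 1 0 = a' := rfl
  have e12 : e 1 2 = b := rfl
  have e20 : e 2 0 = s' := rfl
  have e21 : e 2 1 = b' := rfl
  have hsq : ∀ i j, e i j * e i j = 1 := by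
    intro i j
    fin_cases i <;> fin_cases j <;> simp [he, ha, ha', hb, hb', hs, hs']
  have hcomm : ∀ i j k l, i ≠ j → k ≠ l → j ≠ k → i ≠ l → e i j * e k l = e k l * e i j := by
    intro i j k l
    fin_cases i <;> fin_cases j <;> fin_cases k <;> fin_cases l <;> intro p1 p2 p3 p4 <;>
      first
        | exact absurd rfl p1
        | exact absurd rfl p2
        | exact absurd rfl p3
        | exact absurd rfl p4
        | rfl
        | exact c1
        | exact c1.symm
        | exact c2
        | exact c2.symm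
        | exact c3
        | exact c3.symm
        | exact c4
        | exact c4.symm
        | exact c5
        | exact c5.symm
        | exact c6
        | exact c6.symm
  have hbr : ∀ i j k, i ≠ j → j ≠ k → i ≠ k → ⁅e i j, e j k⁆ = e i k := by
    intro i j k
    fin_cases i <;> fin_cases j <;> fin_cases k <;> intro p1 p2 p3 <;>
      first
        | exact absurd rfl p1
        | exact absurd rfl p2
        | exact absurd rfl p3
        | exact h1
        | exact h2
        | exact h5
        | exact hsw ha h3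
        | exact hsw hb' h4
        | exact hsw hs' h6
  have hz : ∀ t : ZMod 2, t = 0 ∨ t = 1 := by decide
  have hx : AGraded.SteinRel (el e) := by
    refine ⟨fun i j hij t u => ?_, fun i j k l p1 p2 p3 p4 t u => ?_, fun i j k p1 p2 p3 t u => ?_⟩
    · rcases hz t with rfl | rfl <;> rcases hz u with rfl | rfl
      · simp [el]
      · simp [el]
      · simp [el]
      · have h0 : (1 : ZMod 2) + 1 = 0 := by decide
        simp [el, h0, hsq]
    · rcases hz t with rfl | rfl <;> rcases hz u with rfl | rfl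
      · simp [el]
      · simp [el]
      · simp [el]
      · simp only [el, one_ne_zero, if_false]
        exact hcomm i j k l p1 p2 p3 p4
    · rcases hz t with rfl | rfl <;> rcases hz u with rfl | rfl
      · simp [el]
      · simp [el]
      · simp [el]
      · simp only [el, one_ne_zero, if_false, mul_one]
        exact hbr i j k p1 p2 p3
  obtain ⟨π, -, hπ, -⟩ := H622.Levi.exists_hom_of_stein (F := ZMod 2) (m := 2) le_rfl hx
  have hle : closure ({a, a', b, b', s, s'} : Set Y) ≤ π.range := by
    rw [hπ]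
    have key : ∀ i j : Fin 3, i ≠ j → e i j ∈ AGraded.gens (el e) := fun i j hij => ⟨i, j, hij, 1, by simp [el]⟩
    refine closure_mono ?_
    rintro x (rfl | rfl | rfl | rfl | rfl | rfl)
    · exact key 0 1 (by decide)
    · exact key 1 0 (by decide)
    · exact key 1 2 (by decide)
    · exact key 2 1 (by decide)
    · exact key 0 2 (by decide)
    · exact key 2 0 (by decide)
  exact (noS3_sl.of_surjective π.rangeRestrict π.rangeRestrict_surjective).mono hle

section Elt

open Cfsg.Lie
open Cfsg.Agent.ChevalleyStructure.LaurentWord Cfsg.Agent.ChevalleyStructure.D4Tab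
  Cfsg.Agent.ChevalleyStructure.D4NCheck Cfsg.Agent.ChevalleyStructure.D4NConj
  Cfsg.Agent.ChevalleyStructure.D4Comm Cfsg.Agent.ChevalleyStructure.D4U

/-- the check `x_r(t) x_s(u) = x_s(u) x_r(t)` -/
def chkC (r s : ℕ) : Bool :=
  checkEq 28 24 tcols [(r, 1, 1, 0), (s, 1, 0, 1)] [(s, 1, 0, 1), (r, 1, 1, 0)]

variable {K : Type*} [Field K]

theorem comm_of_chk {r s : ℕ} (h : chkC r s = true) :
    (xG r 1 : GL chevD4.Idx K) * xG s 1 = xG s 1 * xG r 1 := by
  have h1 := wordG_eq_of_checkEq (F := K) (one_ne_zero) (one_ne_zero) h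
  simpa [evW, wordG, evM] using h1

theorem chkC_all : chkC 14 23 = true ∧ chkC 14 1 = true ∧ chkC 9 22 = true ∧ chkC 9 0 = true ∧
    chkC 22 23 = true ∧ chkC 1 0 = true := by
  refine ⟨?_, ?_, ?_, ?_, ?_, ?_⟩ <;> decide +kernel

theorem sq_xG [CharP K 2] (r : ℕ) : (xG r 1 : GL chevD4.Idx K) * xG r 1 = 1 := by
  rw [← xG_add, CharTwo.add_self_eq_zero, xG_zero]

end Elt

end Cfsg.Agent.H353.SNX
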