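import Mathlib
import Cfsg.Agent.H353.SNX.D4
import Cfsg.Agent.H353.SNX.Six

/-!
# S3831, `³D₄(2)`, order three (helper353)

The proof of `H640.TD.Row` with `RN` instead of `RC`.
-/

set_option autoImplicit false
set_option linter.unusedSectionVars false
set_option linter.unusedFintypeInType false

namespace Cfsg.Agent.H353.SNX

open CoxeterSystem Cfsg.Agent.ChevalleyStructure.CoxeterGeom Cfsg.Agent.Tits.Roots Cfsg.Agent.Tits.Core
  Cfsg.Agent.Tits.Exchange Cfsg.Agent.Nodes.Reps Cfsg.Agent.Nodes.BNOf Cfsg.Agent.Nodes.StabComb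
  Cfsg.Agent.Nodes.Bruhat Cfsg.Agent.Nodes.OppDec Cfsg.Agent.Nodes.RGDTwGen Cfsg.Agent.Nodes.RGDChev
  Cfsg.Agent.Nodes.RGDFold Cfsg.Agent.Nodes.RGDFoldSL
open Cfsg.Agent.KFacts.RgdOpp Cfsg.Agent.KFacts.RgdAut Cfsg.Agent.KFacts.RgdDiag Cfsg.Agent.KFacts.RgdRigid
  Cfsg.Agent.KFacts.RgdField Cfsg.Agent.KFacts.RgdTau Cfsg.Agent.KFacts.RgdNodes
open Cfsg.Lie Cfsg.Agent.ChevalleyStructure Cfsg.Agent.ChevalleyStructure.Elts Cfsg.Agent.ChevStructure.FieldMap
open Cfsg.Agent.ChevalleyStructure.SL2Hom (up lo)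
open Cfsg.Agent.KFacts.TwDFour.Out
open Cfsg.Agent.Nodes.RGDTwD4 Cfsg.Agent.Nodes.RGDTwNode.D4
open Cfsg.Agent.CpAut.RgdFix Cfsg.Agent.CpAut.RgdConj Cfsg.Agent.CpAut.RgdSub
  Cfsg.Agent.CpAut.RgdTwStd Cfsg.Agent.CpAut.RgdTwD4
open Cfsg.Agent.Schreier.BNSch
open Subgroup Cfsg Cfsg.Agent.H459.Rad Cfsg.Agent.H459.Gallery Cfsg.Agent.H459.NonEll Cfsg.Agent.H459.Iface
open Cfsg.Agent.H459.RgdRad Cfsg.Agent.H21.SN
open Cfsg.Agent.H640.TD (ee mem14 mem9 fa fa_ee PP rg cs hgen hBT card_X0 isSimple cc_pow cc_ne cc_mem center_bot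
  iv_B_fa card_P0 stab mem_stab conj_mem_stab mem_stab_of_iv card_stab_dvd exists_nine exists_conj_mem_nine
  rig_three cx_pow two_cases chk_all comm_one comm9_22 false_of_six mem22 mem1 mem23 mem0 ee14_ne mem_radIn_of_conj)
open scoped commutatorElement

variable {F : Type} [Field F] [Fintype F] (hF : Fintype.card F = 8) [CharP F 2] {φ : F →+* F}
  (hφ : ∀ x, φ x = x ^ 2)

section

include hF hφ

/-- the group generated by the six long root elements -/
theorem exists_six : ∃ M : Subgroup ↥(twistedD4 F 2), ee 14 mem14 * ee 9 mem9 ∈ M ∧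
    (∀ (σ : F ≃+* F), ∀ m ∈ M, fa σ m = m) ∧ ee 14 mem14 * ee 9 mem9 ∉ radIn M ∧ NoS3 M := by
  set a := ee 14 (mem14 (F := F)) with ha
  set a' := ee 9 (mem9 (F := F)) with ha'
  set b := ee 22 (mem22 hφ mem14) with hb
  set b' := ee 1 (mem1 hφ mem9) with hb'
  set s := ee 23 (mem23 hφ mem14) with hs
  set s' := ee 0 (mem0 hφ mem9) with hs'
  set M : Subgroup ↥(twistedD4 F 2) := closure {a, a', b, b', s, s'} with hM
  have hsub : ∀ x ∈ ({a, a', b, b', s, s'} : Set ↥(twistedD4 F 2)), x ∈ M := fun x hx => by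
    rw [hM]; exact subset_closure hx
  obtain ⟨h1, h2, h3, h4, h5, h6⟩ := chk_all
  have k1 : ⁅a, b⁆ = s := Subtype.ext (comm_one (K := F) (Or.inl rfl) h1)
  have k2 : ⁅a', s⁆ = b := Subtype.ext (comm_one (K := F) (Or.inl rfl) h2)
  have k3 : ⁅b', s⁆ = a := Subtype.ext (comm_one (K := F) (Or.inr rfl) h3)
  have k4 : ⁅a, s'⁆ = b' := Subtype.ext (comm_one (K := F) (Or.inr rfl) h4)
  have k5 : ⁅b, s'⁆ = a' := Subtype.ext (comm_one (K := F) (Or.inl rfl) h5)
  have k6 : ⁅a', b'⁆ = s' := Subtype.ext (comm_one (K := F) (Or.inr rfl) h6)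
  refine ⟨M, mul_mem (hsub _ (by simp)) (hsub _ (by simp)), fun σ => ?_, fun hc => ?_, ?_⟩
  · have h1 : M ≤ Cfsg.fixedSubgroup (fa σ) := by
      rw [hM, closure_le]
      rintro x (rfl | rfl | rfl | rfl | rfl | rfl) <;> exact fa_ee σ _
    exact fun m hm => h1 hm
  · refine false_of_six hM k1 k2 k3 k4 k5 k6 ?_ ?_ hc
    · exact Subtype.ext comm9_22
    · exact ee14_ne hF hφ
  · obtain ⟨c1, c2, c3, c4, c5, c6⟩ := chkC_all
    exact noS3_of_six (Subtype.ext (sq_xG 14)) (Subtype.ext (sq_xG 9)) (Subtype.ext (sq_xG 22)) (Subtype.ext (sq_xG 1))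
      (Subtype.ext (sq_xG 23)) (Subtype.ext (sq_xG 0)) k1 k2 k3 k4 k5 k6 (Subtype.ext (comm_of_chk c1))
      (Subtype.ext (comm_of_chk c2)) (Subtype.ext (comm_of_chk c3)) (Subtype.ext (comm_of_chk c4))
      (Subtype.ext (comm_of_chk c5)) (Subtype.ext (comm_of_chk c6))

theorem nd_one : Nd (rg hF hφ) (hgen hF hφ) 1 := by
  have hK := H640.TD.hK hF
  refine nd_of_isNode (rg hF hφ) (hgen hF hφ) (H640.TD.hG1 hF hφ)
    (Group.isSolvable_of_comm fun a b => Subtype.ext (torus_comm hφ hK a.2 b.2)) (isNode_d4 hφ hK 2 1 ?_)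
  have h1 := ClosedExc.TwD4.card_X1 (q := 2) hφ (D4Fixed.twisted_le_fix hK hφ)
  rw [hF] at h1
  omega

theorem nd (i : Fin 2) : Nat.card (X φ 2 (sr i)) ≤ 2 ∨ Nd (rg hF hφ) (hgen hF hφ) i := by
  rcases two_cases i with rfl | rfl
  · exact Or.inl (card_X0 hF hφ)
  · exact Or.inr (nd_one hF hφ)

theorem false_of_P0 {y : MulAut ↥(twistedD4 F 2)} (hR : RN y) (hy3 : y ^ 3 = 1) (hy1 : y ≠ 1)
    (hP : Iv y ((PP hF hφ).parabolic {n hφ 0})) : False := by
  have := isSimple hF hφ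
  have hZ := center_bot hF hφ
  have h3 : Fact (Nat.Prime 3) := ⟨Nat.prime_three⟩
  have hfin := Cfsg.Agent.H640.FC.card_ringAut_pos (K := F)
  have hcA : Nat.card (F ≃+* F) = 3 := Cfsg.Agent.Lib.FieldAutCard.card_ringAut (by omega) (H640.TD.hK hF)
  obtain ⟨τ, hτ⟩ := exists_prime_orderOf_dvd_card' (G := F ≃+* F) 3 (by rw [hcA])
  have hτ3 : τ ^ 3 = 1 := by rw [← hτ]; exact pow_orderOf_eq_one τ
  have hτ1 : τ ≠ 1 := by rintro rfl; rw [orderOf_one] at hτ; omega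
  have hnin : ∀ σ : F ≃+* F, σ ≠ 1 → fa σ ∉ Cfsg.Inn ↥(twistedD4 F 2) := fun σ h =>
    Cfsg.Agent.H967.FaTw.not_inner_d4 (Nat.prime_two.isPrimePow) (H640.TD.hK hF) σ h
  obtain ⟨s, hs⟩ : ∃ s, s = fa τ := ⟨_, rfl⟩
  have hs3 : s ^ 3 = 1 := by rw [hs, ← map_pow, hτ3, map_one]
  have hs1 : s ≠ 1 := by
    intro h
    apply hnin τ hτ1
    rw [← hs, h]
    exact one_mem _
  have hsB : Iv s (PP hF hφ).B := by rw [hs]; exact iv_B_fa hF hφ τ
  obtain ⟨c, hc⟩ : ∃ c, c = (ee 14 mem14 * ee 9 mem9 : ↥(twistedD4 F 2)) := ⟨_, rfl⟩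
  have hc3 : c ^ 3 = 1 := by rw [hc]; exact cc_pow hF hφ
  have hc1 : c ≠ 1 := by rw [hc]; exact cc_ne hF hφ
  have hsc : ∀ k : ℤ, ∀ j : ℤ, (s ^ j) (c ^ k) = c ^ k := by
    intro k j
    rw [hs, ← map_zpow, map_zpow, hc, map_mul, fa_ee, fa_ee]
  set c' : MulAut ↥(twistedD4 F 2) := MulAut.conj c with hc'
  have hc'3 : c' ^ 3 = 1 := by rw [hc', ← map_pow, hc3, map_one]
  have hinj := Cfsg.Agent.H839.Rad.conj_injective hZ
  have hc'1 : c' ≠ 1 := fun h => hc1 (hinj (h.trans (map_one _).symm))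
  have hcs : c' * s = s * c' := by
    ext g
    have h4 := hsc 1 1
    rw [zpow_one, zpow_one] at h4
    rw [MulAut.mul_apply, MulAut.mul_apply, hc', MulAut.conj_apply, MulAut.conj_apply, map_mul, map_mul, map_inv, h4]
  have hoc : orderOf c' = 3 := orderOf_eq_prime hc'3 hc'1
  have hos : orderOf s = 3 := orderOf_eq_prime hs3 hs1
  have hdis : Disjoint (zpowers c') (zpowers s) := by
    rw [disjoint_iff, eq_bot_iff]
    rintro z ⟨⟨i, hi⟩, ⟨j, hj⟩⟩
    have hi' : c' ^ i = z := hi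
    have hj' : s ^ j = z := hj
    rw [mem_bot]
    by_contra hz
    have h4 : fa (τ ^ j) ∈ Cfsg.Inn ↥(twistedD4 F 2) := by
      rw [map_zpow, ← hs, hj', ← hi', hc', ← map_zpow]
      exact ⟨_, rfl⟩
    have h5 : τ ^ j = 1 := by
      by_contra h6
      exact hnin _ h6 h4
    apply hz
    rw [← hj', hs, ← map_zpow, h5, map_one]
  obtain ⟨S, hScard, hSle, hSmem⟩ := exists_nine hoc hos hcs hdis
  set P0 := (PP hF hφ).parabolic {n hφ 0} with hP0
  have hN : normalizer (P0 : Set ↥(twistedD4 F 2)) = P0 :=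
    Cfsg.Agent.S0312.result (PP hF hφ) (Set.singleton_subset_iff.2 (mem_S (rg hF hφ) (hgen hF hφ)))
  have hSst : S ≤ stab P0 := hSle _ (conj_mem_stab (by rw [hc]; exact cc_mem hF hφ))
    (mem_stab_of_iv (rig_three (rg hF hφ) (hgen hF hφ) hs3 hsB 0))
  have h27 : ¬ 27 ∣ Nat.card (stab P0) := by
    intro h
    have h4 := h.trans (card_stab_dvd hZ hN)
    rw [Cfsg.Agent.H69.OutTwD4.card_out (Nat.prime_two.isPrimePow) (H640.TD.hK hF) 2, hcA] at h4
    have h5 : 9 * 3 ∣ Nat.card P0 * 3 := h4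
    exact card_P0 hF hφ (Nat.dvd_of_mul_dvd_mul_right (by norm_num) h5)
  obtain ⟨h, -, hh⟩ := exists_conj_mem_nine hSst hScard h27 (mem_stab_of_iv hP) hy3
  obtain ⟨y', hy'⟩ : ∃ y', y' = h * y * h⁻¹ := ⟨_, rfl⟩
  rw [← hy'] at hh
  have hR' : RN y' := by
    have h4 := hR.tr h
    have h5 : Cfsg.Agent.H459.Rad.tr h y = y' := by rw [hy']; rfl
    rwa [h5] at h4
  have hy'3 : y' ^ 3 = 1 := by rw [hy', conj_pow, hy3, mul_one, mul_inv_cancel]
  have hy'1 : y' ≠ 1 := by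
    intro h4
    apply hy1
    rw [hy', mul_inv_eq_one] at h4
    exact mul_left_cancel (h4.trans (mul_one h).symm)
  obtain ⟨i, j, hij⟩ := hSmem y' hh
  by_cases hci : c' ^ i = 1
  · rw [hci, one_mul] at hij
    apply hy'1
    refine eq_one_of_B (rg hF hφ) (hgen hF hφ) (H640.TD.solvable_B hF hφ) (nd hF hφ) hR' hy'3 ?_
    rw [hij, hs, ← map_zpow]
    exact iv_B_fa hF hφ _
  · obtain ⟨M, hcM, hMf, hcR, hMN⟩ := exists_six hF hφ
    rw [← hc] at hcM hcR
    have hact : ∀ m ∈ M, y' m = c ^ i * m * (c ^ i)⁻¹ := by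
      intro m hm
      rw [hij, MulAut.mul_apply, hs, ← map_zpow fa, hMf _ m hm, hc', ← map_zpow, MulAut.conj_apply]
    have hciM : c ^ i ∈ M := zpow_mem hcM i
    have h4 : c ^ i ∈ radIn M := mem_radIn_of_conj hciM fun m hm => by
      rw [← hact m hm]
      exact hR' M (fun m hm => by
        rw [hact m hm]
        exact mul_mem (mul_mem hciM hm) (inv_mem hciM)) hMN m hm
    apply hcR
    have h5 : (c ^ i) ^ i = c := by
      have h6 : ¬ (3 : ℤ) ∣ i := by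
        rintro ⟨k, rfl⟩
        apply hci
        rw [zpow_mul, show c' ^ (3 : ℤ) = c' ^ 3 from zpow_natCast c' 3, hc'3, one_zpow]
      have h7 : ∃ k : ℤ, i * i = 3 * k + 1 := by
        have h8 : i % 3 = 1 ∨ i % 3 = 2 := by omega
        have h9 := Int.emod_add_mul_ediv i 3
        rcases h8 with h8 | h8
        · exact ⟨3 * (i / 3) * (i / 3) + 2 * (i / 3), by
            rw [h8] at h9
            linear_combination (-(i + 3 * (i / 3) + 1)) * h9⟩
        · exact ⟨3 * (i / 3) * (i / 3) + 4 * (i / 3) + 1, by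
            rw [h8] at h9
            linear_combination (-(i + 3 * (i / 3) + 2)) * h9⟩
      obtain ⟨k, hk⟩ := h7
      rw [← zpow_mul, hk, zpow_add, zpow_mul, show c ^ (3 : ℤ) = c ^ 3 from zpow_natCast c 3, hc3, one_zpow, one_mul,
        zpow_one]
    rw [← h5]
    exact zpow_mem h4 i

/-- **`³D₄(2)`** -/
theorem false_of_fix_two {x : MulAut ↥(twistedD4 F 2)} (hR : RN x) (hx3 : x ^ 3 = 1) (hx1 : x ≠ 1)
    (hfx : FixR 2 x) : False := by
  have hsim := isSimple hF hφ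
  have hns : ∀ V : Subgroup ↥(twistedD4 F 2), V ≠ ⊥ → V ≠ ⊤ → normalizer (V : Set ↥(twistedD4 F 2)) ≠ ⊤ := by
    intro V h1 h2 h3
    rcases (Subgroup.normalizer_eq_top_iff.1 h3).eq_bot_or_eq_top with h4 | h4
    · exact h1 h4
    · exact h2 h4
  obtain ⟨M₀, g₀, h1, h2, h3⟩ := exists_par (rg hF hφ) (hgen hF hφ) (hBT hF hφ) hns (not_isPGroup (rg hF hφ)) hfx
  have hy3 := cx_pow hx3 g₀
  have hy1 : cx x g₀ ≠ 1 := by
    intro h
    apply hx1
    have h4 : cx (cx x g₀) g₀⁻¹ = x := by rw [cx_cx, mul_inv_cancel, cx_one]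
    rw [← h4, h]
    unfold cx
    simp
  have hyR := rn_cx hR g₀
  obtain ⟨y, hy⟩ : ∃ y, y = cx x g₀ := ⟨_, rfl⟩
  rw [← hy] at h3 hy3 hy1 hyR
  have keyB : Iv y (PP hF hφ).B → False := fun hB => hy1
    (eq_one_of_B (rg hF hφ) (hgen hF hφ) (H640.TD.solvable_B hF hφ) (nd hF hφ) hyR hy3 hB)
  obtain ⟨J, hJ, rfl⟩ := Cfsg.Agent.S0311.result (PP hF hφ) M₀ h1
  have hJ' : ∀ t ∈ J, t = n hφ 0 ∨ t = n hφ 1 := by
    intro t ht
    obtain ⟨i, rfl⟩ : ∃ i, n hφ i = t := hJ ht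
    rcases two_cases i with rfl | rfl
    · exact Or.inl rfl
    · exact Or.inr rfl
  by_cases h0 : n hφ 0 ∈ J
  · by_cases h5 : n hφ 1 ∈ J
    · apply h2
      have h6 : J = (PP hF hφ).S := by
        apply Set.Subset.antisymm hJ
        rintro _ ⟨i, rfl⟩
        rcases two_cases i with rfl | rfl
        · exact h0
        · exact h5
      rw [h6]
      exact sup_closure_eq_top (PP hF hφ)
    · have h6 : J = {n hφ 0} := by
        apply Set.Subset.antisymm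
        · intro t ht
          rcases hJ' t ht with h7 | h7
          · exact h7
          · exact absurd (h7 ▸ ht) h5
        · exact Set.singleton_subset_iff.2 h0
      rw [h6] at h3
      exact false_of_P0 hF hφ hyR hy3 hy1 h3
  · by_cases h5 : n hφ 1 ∈ J
    · have h6 : J = {n hφ 1} := by
        apply Set.Subset.antisymm
        · intro t ht
          rcases hJ' t ht with h7 | h7
          · exact absurd (h7 ▸ ht) h0
          · exact h7
        · exact Set.singleton_subset_iff.2 h5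
      rw [h6] at h2 h3
      obtain ⟨hns1, hN1⟩ := nd_one hF hφ
      exact keyB (iv_B (PP hF hφ) hyR (H640.TD.solvable_B hF hφ) (mem_S (rg hF hφ) (hgen hF hφ)) h3 hN1 hns1)
    · have h6 : J = ∅ := by
        rw [Set.eq_empty_iff_forall_notMem]
        intro t ht
        rcases hJ' t ht with h7 | h7
        · exact h0 (h7 ▸ ht)
        · exact h5 (h7 ▸ ht)
      rw [h6, parabolic_empty] at h3
      exact keyB h3

end

/-- **`³D₄(q)`, `q ≠ 3`** -/
theorem g3_twD4 {E : Type} [Field E] [Fintype E] {q : ℕ} (hq : IsPrimePow q) (hE : Fintype.card E = q ^ 3)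
    (h3 : q ≠ 3) [IsSimpleGroup ↥(twistedD4 E q)] : G3 ↥(twistedD4 E q) := by
  by_cases h4 : 4 ≤ q
  · exact g3_twD4_big hq hE h4
  have hq2 := hq.two_le
  obtain rfl : q = 2 := by omega
  have hE8 : Fintype.card E = 8 := by rw [hE]; norm_num
  have hch : CharP E 2 := Cfsg.Agent.H967.CopSz.charP_of_card Nat.prime_two (n := 3) hE
  obtain ⟨φ, hφ⟩ := D4Fixed.exists_frob (K := E) (q := 2) hq hE
  intro x hx _ hR
  have hx3 : x ^ 3 = 1 := by rw [← hx]; exact pow_orderOf_eq_one x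
  have hx1 : x ≠ 1 := by rintro rfl; rw [orderOf_one] at hx; omega
  have hp : Fact (Nat.Prime 2) := ⟨Nat.prime_two⟩
  exact false_of_fix_two hE8 hφ hR hx3 hx1 (H65.Disp.Twist.exists_inv_twD4 hq hE 2 x hx3)

end Cfsg.Agent.H353.SNX
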